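import Cfsg.Agent.Lib.Suzuki.Summary
import Cfsg.Agent.Lib.SuzukiMatrix.Bridge
import Cfsg.Agent.Lib.SuzukiOut.Main
import Cfsg.Agent.Lib.CITApp.Classes
import Cfsg.Agent.Lib.CIT.TISylow
import Cfsg.Agent.Lib.Zsigmondy.Basic

/-!
# Facts on `Sz(q)` used for the prime graph characterisation
-/

set_option autoImplicit false

namespace CfsgLib.SzGraph

open Matrix CfsgLib.Suzuki CfsgLib.CITApp

/-! ### Transport along an isomorphism of fields -/

section Congr

variable {F F' : Type*} [Field F] [Field F'] (σ : F ≃+* F')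

/-- The induced map on `GL₄`. -/
noncomputable def glCongr : GL (Fin 4) F ≃* GL (Fin 4) F' :=
  Units.mapEquiv σ.mapMatrix.toMulEquiv

theorem glCongr_coe (g : GL (Fin 4) F) :
    ((glCongr σ g : GL (Fin 4) F') : Matrix (Fin 4) (Fin 4) F') =
      (g : Matrix (Fin 4) (Fin 4) F).map σ := rfl

theorem gen_mem {e : ℕ} {g : GL (Fin 4) F}
    (hg : g ∈ Cfsg.Lie.Sp4 F ∧ Cfsg.Lie.star4 (g : Matrix (Fin 4) (Fin 4) F) =
      (g : Matrix (Fin 4) (Fin 4) F).map (fun x => x ^ e)) :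
    glCongr σ g ∈ Cfsg.Lie.Sp4 F' ∧
      Cfsg.Lie.star4 ((glCongr σ g : GL (Fin 4) F') : Matrix (Fin 4) (Fin 4) F') =
        ((glCongr σ g : GL (Fin 4) F') : Matrix (Fin 4) (Fin 4) F').map (fun x => x ^ e) := by
  constructor
  · intro u v
    have h := congrArg σ (hg.1 (σ.symm ∘ u) (σ.symm ∘ v))
    simp only [Units.coeHom_apply, Cfsg.Lie.altForm4, Matrix.mulVec, dotProduct, Fin.sum_univ_four,
      glCongr_coe, Matrix.map_apply, map_add, map_mul, Function.comp_apply,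
      RingEquiv.apply_symm_apply] at h ⊢
    exact h
  · ext p r
    have h := congrArg σ (congrFun (congrFun hg.2 p) r)
    simp only [Cfsg.Lie.star4, Matrix.of_apply, Matrix.map_apply, map_sub, map_mul, map_pow,
      glCongr_coe] at h ⊢
    exact h

theorem map_sz (e : ℕ) :
    (Cfsg.Lie.Sz F e).map (glCongr σ).toMonoidHom = Cfsg.Lie.Sz F' e := by
  rw [Cfsg.Lie.Sz, Cfsg.Lie.Sz, MonoidHom.map_closure]
  congr 1
  refine Set.Subset.antisymm ?_ fun g hg => ?_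
  · rintro _ ⟨g, hg, rfl⟩
    exact gen_mem σ hg
  · refine ⟨glCongr σ.symm g, gen_mem σ.symm hg, Units.ext ?_⟩
    show (((g : Matrix (Fin 4) (Fin 4) F').map σ.symm).map σ) = _
    ext i j
    simp

/-- `Sz` only depends on the isomorphism class of the field. -/
noncomputable def szCongr (e : ℕ) : ↥(Cfsg.Lie.Sz F e) ≃* ↥(Cfsg.Lie.Sz F' e) :=
  ((glCongr σ).subgroupMap _).trans (MulEquiv.subgroupCongr (map_sz σ e))

end Congr

/-! ### Arithmetic -/

/-- `|Sz(q)|` for `q = 2^(2m+1)`. -/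
def szOrder (m : ℕ) : ℕ :=
  (2 ^ (2 * m + 1)) ^ 2 * ((2 ^ (2 * m + 1)) ^ 2 + 1) * (2 ^ (2 * m + 1) - 1)

theorem not_three_dvd_szOrder (m : ℕ) : ¬ 3 ∣ szOrder m := by
  have h : 2 ^ (2 * m + 1) % 3 = 2 := by
    rw [pow_succ, pow_mul, Nat.mul_mod, Nat.pow_mod]
    simp
  unfold szOrder
  rw [Nat.Prime.dvd_mul Nat.prime_three, Nat.Prime.dvd_mul Nat.prime_three]
  generalize 2 ^ (2 * m + 1) = q at h
  rintro ((h1 | h1) | h1)
  · have := Nat.dvd_iff_mod_eq_zero.mp (Nat.prime_three.dvd_of_dvd_pow h1); omega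
  · have h2 := Nat.dvd_iff_mod_eq_zero.mp h1
    rw [Nat.add_mod, Nat.pow_mod, h] at h2
    omega
  · omega

/-- A larger Suzuki group has an odd prime divisor not dividing the smaller one. -/
theorem exists_prime_new {m m' : ℕ} (hlt : m < m') :
    ∃ r : ℕ, r.Prime ∧ r ≠ 2 ∧ r ∣ szOrder m' ∧ ¬ r ∣ szOrder m := by
  set n := 2 * m + 1 with hn
  set n' := 2 * m' + 1 with hn'
  obtain ⟨r, hr, hrd, hprim⟩ := CfsgLib.Zsigmondy.exists_primitive_prime_divisor (a := 2)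
    (n := 4 * n') (by omega) (by omega) (by omega) (by rintro ⟨h, -⟩; omega)
  have h2 : r ≠ 2 := by
    rintro rfl
    have h2' : 2 ∣ 2 ^ (4 * n') := dvd_pow_self 2 (by omega)
    have := Nat.two_pow_pos (4 * n')
    omega
  have hnp : ∀ k, 0 < k → k < 4 * n' → ¬ r ∣ 2 ^ k - 1 := hprim
  refine ⟨r, hr, h2, ?_, ?_⟩
  · have he : 2 ^ (4 * n') - 1 = ((2 ^ n') ^ 2 + 1) * ((2 ^ n') ^ 2 - 1) := by
      rw [← Nat.sq_sub_sq, one_pow, ← pow_mul, ← pow_mul]; ring_nf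
    rw [he] at hrd
    rcases hr.dvd_mul.mp hrd with h | h
    · exact (h.mul_left _).mul_right _
    · exact absurd (by rwa [← pow_mul] at h) (hnp (n' * 2) (by omega) (by omega))
  · intro h
    unfold szOrder at h
    rcases hr.dvd_mul.mp h with h | h
    · rcases hr.dvd_mul.mp h with h | h
      · exact h2 ((Nat.prime_dvd_prime_iff_eq hr Nat.prime_two).mp
          (hr.dvd_of_dvd_pow (hr.dvd_of_dvd_pow h)))
      · refine hnp (4 * n) (by omega) (by omega) ?_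
        have he : 2 ^ (4 * n) - 1 = ((2 ^ n) ^ 2 + 1) * ((2 ^ n) ^ 2 - 1) := by
          rw [← Nat.sq_sub_sq, one_pow, ← pow_mul, ← pow_mul]; ring_nf
        rw [he]
        exact dvd_mul_of_dvd_left h _
    · exact hnp n (by omega) (by omega) h

/-- Two Suzuki orders with the same odd prime divisors are equal. -/
theorem eq_of_same_primes {m m' : ℕ}
    (h : ∀ r : ℕ, r.Prime → r ≠ 2 → (r ∣ szOrder m ↔ r ∣ szOrder m')) : m = m' := by
  rcases lt_trichotomy m m' with hlt | heq | hlt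
  · obtain ⟨r, hr, h2, hd, hnd⟩ := exists_prime_new hlt
    exact absurd ((h r hr h2).mpr hd) hnd
  · exact heq
  · obtain ⟨r, hr, h2, hd, hnd⟩ := exists_prime_new hlt
    exact absurd ((h r hr h2).mp hd) hnd

/-! ### The group -/

variable {F : Type*} [Field F] [Fintype F] {m : ℕ} (h : SzHyp F m)
include h

theorem card_eq : Nat.card (Cfsg.Sz F m) = szOrder m := by
  rw [Nat.card_congr (CfsgLib.SuzukiMatrix.szEquiv h).toEquiv, CfsgLib.SuzukiMatrix.card_lieSz h]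
  rfl

theorem orderOf_ne_two_mul {r : ℕ} (hr : r.Prime) (hr2 : r ≠ 2) (g : Cfsg.Sz F m) :
    orderOf g ≠ 2 * r := by
  intro hg
  have hg1 : g ≠ 1 := by rintro rfl; rw [orderOf_one] at hg; have := hr.two_le; omega
  rcases two_or_cyclic_centralizer h hg1 with ⟨i, hi⟩ | ⟨A, hA, -, hcard, -⟩
  · exact hr2 ((Nat.prime_dvd_prime_iff_eq hr Nat.prime_two).mp
      (hr.dvd_of_dvd_pow (hi ▸ hg ▸ Dvd.intro_left 2 rfl)))
  · have hgA : g ∈ A := hA ▸ Subgroup.mem_centralizer_singleton_iff.mpr rfl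
    have hd : 2 ∣ Nat.card A := dvd_trans (hg ▸ Dvd.intro r rfl) (Subgroup.orderOf_dvd_natCard A hgA)
    have hq : 2 ∣ 2 ^ (2 * m + 1) := dvd_pow_self 2 (by omega)
    have hs : 2 ∣ 2 ^ (m + 1) := dvd_pow_self 2 (by omega)
    have hle : 2 ^ (m + 1) ≤ 2 ^ (2 * m + 1) := Nat.pow_le_pow_right (by omega) (by omega)
    have := Nat.two_pow_pos (2 * m + 1)
    simp only [Set.mem_insert_iff, Set.mem_singleton_iff] at hcard
    rcases hcard with e | e | e <;> omega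

/-- There are two odd primes whose product is no element order. -/
theorem exists_two_primes : ∃ p r : ℕ, p.Prime ∧ r.Prime ∧ p ≠ 2 ∧ r ≠ 2 ∧ p ≠ r ∧
    p ∣ szOrder m ∧ r ∣ szOrder m ∧ ∀ g : Cfsg.Sz F m, orderOf g ≠ p * r := by
  set q := 2 ^ (2 * m + 1) with hq
  have hq8 : 8 ≤ q := by
    have h8 : 2 ^ 3 ≤ 2 ^ (2 * m + 1) := Nat.pow_le_pow_right (by omega) (by have := h.one_le; omega)
    simpa [hq] using h8
  have hqe : 2 ∣ q := hq ▸ dvd_pow_self 2 (by omega)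
  obtain ⟨p, hp, hpd⟩ := Nat.exists_prime_and_dvd (n := q - 1) (by omega)
  obtain ⟨r, hr, hrd⟩ := Nat.exists_prime_and_dvd (n := q ^ 2 + 1) (by nlinarith)
  have hqq : 2 ∣ q ^ 2 := dvd_pow hqe two_ne_zero
  have hp2 : p ≠ 2 := by rintro rfl; omega
  have hr2 : r ≠ 2 := by rintro rfl; omega
  -- `q - 1` and `q² + 1` have no common odd prime
  have hex : ∀ {u : ℕ}, u.Prime → u ≠ 2 → u ∣ q - 1 → u ∣ q ^ 2 + 1 → False := by
    intro u hu hu2 h1 h2
    have h3 : u ∣ q ^ 2 - 1 := by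
      rw [show q ^ 2 - 1 = (q + 1) * (q - 1) by rw [← Nat.sq_sub_sq, one_pow]]
      exact h1.mul_left _
    have h4 : u ∣ 2 := by
      have := Nat.dvd_sub h2 h3
      have h5 : 1 ≤ q ^ 2 := Nat.one_le_pow _ _ (by omega)
      rwa [show q ^ 2 + 1 - (q ^ 2 - 1) = 2 by omega] at this
    exact hu2 ((Nat.prime_dvd_prime_iff_eq hu Nat.prime_two).mp h4)
  refine ⟨p, r, hp, hr, hp2, hr2, fun e => hex hp hp2 hpd (e ▸ hrd), hpd.mul_left _,
    (hrd.mul_left _).mul_right _, fun g hg => ?_⟩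
  have hg1 : g ≠ 1 := by
    rintro rfl; rw [orderOf_one] at hg
    exact hp.ne_one (Nat.eq_one_of_mul_eq_one_right hg.symm)
  rcases two_or_cyclic_centralizer h hg1 with ⟨i, hi⟩ | ⟨A, hA, -, hcard, -⟩
  · exact hp2 ((Nat.prime_dvd_prime_iff_eq hp Nat.prime_two).mp
      (hp.dvd_of_dvd_pow (hi ▸ hg ▸ Dvd.intro r rfl)))
  · have hgA : g ∈ A := hA ▸ Subgroup.mem_centralizer_singleton_iff.mpr rfl
    have hd : p * r ∣ Nat.card A := hg ▸ Subgroup.orderOf_dvd_natCard A hgA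
    have hprod : (q + 2 ^ (m + 1) + 1) * (q - 2 ^ (m + 1) + 1) = q ^ 2 + 1 := by
      have hle : 2 ^ (m + 1) ≤ q := hq ▸ Nat.pow_le_pow_right (by omega) (by omega)
      have hsq : 2 ^ (m + 1) * 2 ^ (m + 1) = 2 * q := by
        rw [hq, ← pow_add, show m + 1 + (m + 1) = 2 * m + 1 + 1 by omega, pow_succ 2 (2 * m + 1)]
        ring
      zify [hle] at hsq ⊢
      linear_combination -hsq
    simp only [Set.mem_insert_iff, Set.mem_singleton_iff] at hcard
    rcases hcard with e | e | e <;> rw [e] at hd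
    · exact hex hr hr2 (dvd_trans (Dvd.intro_left p rfl) hd) hrd
    · exact hex hp hp2 hpd (hprod ▸ (dvd_trans (Dvd.intro r rfl) hd).mul_right _)
    · exact hex hp hp2 hpd (hprod ▸ (dvd_trans (Dvd.intro r rfl) hd).mul_left _)

theorem oneClass : OneClass (Cfsg.Sz F m) := by
  haveI : Fact (Nat.Prime 2) := ⟨Nat.prime_two⟩
  refine oneClass_of_target (tS h 0 1) fun x hx => ?_
  obtain ⟨P, hP⟩ := (IsPGroup.of_card (p := 2) (n := 1)
    (by rw [Nat.card_zpowers, hx, pow_one] : Nat.card (Subgroup.zpowers x) = 2 ^ 1)).exists_le_sylow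
  obtain ⟨y, hy⟩ := exists_map_tGroup h P
  have hxP := hP (Subgroup.mem_zpowers x)
  change x ∈ (P : Subgroup (Cfsg.Sz F m)) at hxP
  rw [hy, mem_map_conj] at hxP
  obtain ⟨a, b, hab⟩ := hxP
  have hx2 : x * x = 1 := by rw [← pow_two, ← hx, pow_orderOf_eq_one]
  have hne : ¬(a = 0 ∧ b = 0) := fun e => by
    have h1 : y⁻¹ * x * y = 1 := by rw [hab, e.1, e.2, tS_zero]
    have h2 : x = 1 := by
      calc x = y * (y⁻¹ * x * y) * y⁻¹ := by group
        _ = 1 := by rw [h1]; group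
    rw [h2, orderOf_one] at hx; omega
  have ha : a = 0 := by
    by_contra ha
    have h1 : tS h a b * tS h a b = 1 := by
      rw [← hab]
      calc y⁻¹ * x * y * (y⁻¹ * x * y) = y⁻¹ * (x * x) * y := by group
        _ = 1 := by rw [hx2]; group
    rw [tS_sq, ← tS_zero h] at h1
    rcases mul_eq_zero.1 (tS_injective h h1).2 with e | e
    · exact ha (sig_eq_zero.1 e)
    · exact ha e
  subst ha
  have hb : b ≠ 0 := fun e => hne ⟨rfl, e⟩
  obtain ⟨k, hk⟩ := CfsgLib.SuzukiAut.sq_surj h b⁻¹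
  have hk0 : k ≠ 0 := fun e => inv_ne_zero hb (by rw [← hk, e, mul_zero])
  refine ⟨dS h (Units.mk0 k hk0) * y⁻¹, ?_⟩
  calc dS h (Units.mk0 k hk0) * y⁻¹ * x * (dS h (Units.mk0 k hk0) * y⁻¹)⁻¹
      = dS h (Units.mk0 k hk0) * (y⁻¹ * x * y) * (dS h (Units.mk0 k hk0))⁻¹ := by group
    _ = tS h 0 1 := by
      rw [hab, dS_conj, mul_zero, Units.val_mk0, mul_comm k, hk, inv_mul_cancel₀ hb]

theorem odd_card_out : Odd (Nat.card (Cfsg.Out (Cfsg.Sz F m))) := by
  rw [CfsgLib.SuzukiOut.card_out h]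
  exact odd_two_mul_add_one m

end CfsgLib.SzGraph
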