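import Cfsg.Agent.Lib.SzGraph.Basic
import Cfsg.Agent.Lib.CITApp.Reduction
import Cfsg.Agent.Lib.CITApp.Solvable

/-!
# Groups with the prime graph of `Sz(q)`

The prime graph forces a CIT group without elements of order three, so the socle modulo `O₂` is a
Suzuki group, its order is read off the odd primes and its automorphisms have odd order modulo inner ones.
The recognition of simple CIT groups is a hypothesis here.
-/

set_option autoImplicit false

namespace CfsgLib.SzGraph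

open CfsgLib.Suzuki CfsgLib.CITApp CfsgLib.CIT

universe u

/-- A subgroup of a CIT group is a CIT group. -/
theorem isCIT_subgroup {X : Type*} [Group X] (hC : IsCIT X) (T : Subgroup X) : IsCIT ↥T := by
  intro t ht
  refine (hC (t : X) (by rw [Subgroup.orderOf_coe, ht])).of_injective
    ((T.subtype.comp (Subgroup.centralizer ({t} : Set ↥T)).subtype).codRestrict
      (Subgroup.centralizer ({(t : X)} : Set X)) fun y => Subgroup.mem_centralizer_singleton_iff.mpr
        (congrArg Subtype.val (Subgroup.mem_centralizer_singleton_iff.mp y.2))) ?_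
  intro a b hab
  exact Subtype.ext (Subtype.ext (congrArg (fun z => (z.1 : X)) hab))

/-- The prime graph of `Sz(q)` makes a group CIT and nonsolvable. -/
theorem cit_of_graph {F : Type*} [Field F] [Fintype F] {m : ℕ} (h : SzHyp F m) {G : Type u} [Group G]
    [Finite G] (hpi : ∀ r : ℕ, r.Prime → (r ∣ szOrder m ↔ r ∣ Nat.card G))
    (hord : ∀ r s : ℕ, r.Prime → s.Prime → r ≠ s →
      ((∃ x : Cfsg.Sz F m, orderOf x = r * s) ↔ ∃ y : G, orderOf y = r * s)) :
    IsCIT G ∧ ¬ Group.IsSolvable G ∧ Even (Nat.card G) := by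
  have hC : IsCIT G := by
    refine isCIT_of_no_commute fun t x r hr hr2 ht hx hc => ?_
    obtain ⟨g, hg⟩ := (hord 2 r Nat.prime_two hr (Ne.symm hr2)).mpr ⟨t * x, by
      rw [hc.orderOf_mul_eq_mul_orderOf_of_coprime, ht, hx]
      rw [ht, hx]; exact (Nat.coprime_primes Nat.prime_two hr).mpr (Ne.symm hr2)⟩
    exact orderOf_ne_two_mul h hr hr2 g hg
  have he : Even (Nat.card G) := even_iff_two_dvd.mpr ((hpi 2 Nat.prime_two).mp
    (dvd_mul_of_dvd_left (dvd_mul_of_dvd_left (dvd_pow (dvd_pow_self 2 (by omega)) two_ne_zero) _) _))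
  refine ⟨hC, fun hs => ?_, he⟩
  obtain ⟨p, r, hp, hr, hp2, hr2, hne, hpd, hrd, hno⟩ := exists_two_primes h
  refine false_of_solvable hC hs he hp hr hp2 hr2 hne ((hpi p hp).mp hpd) ((hpi r hr).mp hrd)
    fun g hg => ?_
  obtain ⟨x, hx⟩ := (hord p r hp hr hne).mpr ⟨g, hg⟩
  exact hno x hx

/-- A group is its socle when the outer automorphisms of the socle have order prime to the index. -/
theorem eq_top_of_out {X : Type*} [Group X] [Finite X] (hC : IsCIT X) (h2 : Cfsg.pCore 2 X = ⊥)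
    (T : Subgroup X) [T.Normal] {s : X} (hs : orderOf s = 2) (hsT : s ∈ T)
    (hT : IsPGroup 2 (X ⧸ T)) {S : Type*} [Group S] (e : S ≃* ↥T)
    (hodd : Odd (Nat.card (Cfsg.Out S))) : T = ⊤ := by
  rw [eq_top_iff]
  intro x _
  obtain ⟨k, hk⟩ := hT (QuotientGroup.mk x)
  have hxk : x ^ 2 ^ k ∈ T := (QuotientGroup.eq_one_iff _).mp (by rw [QuotientGroup.mk_pow, hk])
  have hinn : ∀ a : ↥T, MulAut.congr e.symm (MulAut.conjNormal (a : X)) ∈ Cfsg.Inn S := fun a =>
    ⟨e.symm a, MulEquiv.ext fun y => e.injective (by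
      apply Subtype.ext
      simp [MulAut.congr, MulAut.conjNormal_apply])⟩
  set f : X →* Cfsg.Out S := (QuotientGroup.mk' (Cfsg.Inn S)).comp
    ((MulAut.congr e.symm).toMonoidHom.comp MulAut.conjNormal) with hf
  have h1 : f x ^ 2 ^ k = 1 := by
    rw [← map_pow]
    exact (QuotientGroup.eq_one_iff _).mpr (hinn ⟨_, hxk⟩)
  have h3 : f x = 1 := by
    obtain ⟨j, -, hj⟩ := (Nat.dvd_prime_pow Nat.prime_two).mp (orderOf_dvd_of_pow_eq_one h1)
    rw [← orderOf_eq_one_iff, hj]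
    rcases Nat.eq_zero_or_pos j with rfl | hjp
    · simp
    · exact absurd (dvd_trans (dvd_pow_self 2 hjp.ne') (hj ▸ orderOf_dvd_natCard _))
        hodd.not_two_dvd_nat
  obtain ⟨a, ha⟩ := (QuotientGroup.eq_one_iff _).mp h3
  have hcen : (e a : X)⁻¹ * x ∈ Subgroup.centralizer (T : Set X) := by
    rw [Subgroup.mem_centralizer_iff]
    intro t ht
    have := congrArg (fun φ : MulAut S => ((e (φ (e.symm ⟨t, ht⟩)) : ↥T) : X)) ha
    simp [MulAut.congr, MulAut.conjNormal_apply] at this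
    calc t * ((e a : X)⁻¹ * x) = (e a : X)⁻¹ * ((e a : X) * t * (e a : X)⁻¹) * x := by group
      _ = (e a : X)⁻¹ * (x * t * x⁻¹) * x := by rw [this]
      _ = (e a : X)⁻¹ * x * t := by group
  have hle : Subgroup.centralizer (T : Set X) ≤ Cfsg.pCore 2 X :=
    CfsgLib.Solvable.le_pCore inferInstance
      ((hC s hs).to_le (Subgroup.centralizer_le (Set.singleton_subset_iff.mpr hsT)))
  have h1x := hle hcen
  rw [h2, Subgroup.mem_bot, inv_mul_eq_one] at h1x
  exact h1x ▸ (e a).2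

/-- The recognition of `Sz(q)` by its prime graph, from the recognition of simple CIT groups. -/
theorem main {F : Type*} [Field F] [Fintype F] {m : ℕ} (h : SzHyp F m) {G : Type u} [Group G]
    [Finite G]
    (hrec : ∀ (T : Type u) [Group T] [Finite T] [IsSimpleGroup T], (∃ a b : T, a * b ≠ b * a) →
      IsCIT T → ¬ 3 ∣ Nat.card T → Cfsg.Lie.IsoSuzuki T)
    (hpi : ∀ r : ℕ, r.Prime → (r ∣ szOrder m ↔ r ∣ Nat.card G))
    (hord : ∀ r s : ℕ, r.Prime → s.Prime → r ≠ s →
      ((∃ x : Cfsg.Sz F m, orderOf x = r * s) ↔ ∃ y : G, orderOf y = r * s)) :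
    Nonempty (G ⧸ Cfsg.pCore 2 G ≃* ↥(Cfsg.Lie.Sz F (2 ^ (m + 1)))) := by
  haveI : Fact (Nat.Prime 2) := ⟨Nat.prime_two⟩
  obtain ⟨hC, hns, -⟩ := cit_of_graph h hpi hord
  haveI := CfsgLib.Solvable.pCore_normal 2 G
  have hW := CfsgLib.Solvable.pCore_isPGroup 2 G
  have hCX := isCIT_quotient hC _ hW
  have hcore : Cfsg.pCore 2 (G ⧸ Cfsg.pCore 2 G) = ⊥ :=
    CfsgLib.Solvable.pCore_quotient_eq_bot _ rfl
  obtain ⟨T, hTn, hTs, hTab⟩ :=
    exists_socle hCX (not_isSolvable_quotient hns _ hW) hcore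
  haveI := hTn
  haveI := hTs
  have hT3 : ¬ 3 ∣ Nat.card T := fun hd => not_three_dvd_szOrder m
    ((hpi 3 Nat.prime_three).mpr (hd.trans ((Subgroup.card_subgroup_dvd_card T).trans
      (Subgroup.card_quotient_dvd_card _))))
  obtain ⟨F', iF, iFt, m', hm', hF', ⟨e⟩⟩ := hrec ↥T hTab (isCIT_subgroup hCX T) hT3
  have h' : SzHyp F' m' := ⟨hm', hF'⟩
  set eS : Cfsg.Sz F' m' ≃* ↥T := (CfsgLib.SuzukiMatrix.szEquiv h').trans e.symm
  have hcT : Nat.card T = szOrder m' := by rw [← Nat.card_congr eS.toEquiv, card_eq h']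
  -- an involution of the socle and the single class
  obtain ⟨⟨s, hsT⟩, hs⟩ := exists_prime_orderOf_dvd_card' (G := ↥T) 2 (by
    rw [hcT]
    exact dvd_mul_of_dvd_left (dvd_mul_of_dvd_left (dvd_pow (dvd_pow_self 2 (by omega)) two_ne_zero) _) _)
  rw [Subgroup.orderOf_mk] at hs
  have hone : ∀ v ∈ T, orderOf v = 2 → ∃ a ∈ T, a * v * a⁻¹ = s := by
    intro v hv ho
    obtain ⟨c, hc⟩ := isConj_iff.mp (OneClass.of_equiv eS.symm (oneClass h') ⟨v, hv⟩ ⟨s, hsT⟩
      (by rw [Subgroup.orderOf_mk, ho]) (by rw [Subgroup.orderOf_mk, hs]))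
    exact ⟨c, c.2, congrArg Subtype.val hc⟩
  have hTq := CfsgLib.CITApp.isPGroup_quotient hCX T hs hsT hone
  have htop : T = ⊤ := eq_top_of_out hCX hcore T hs hsT hTq eS (odd_card_out h')
  -- the field
  have hmm : m = m' := eq_of_same_primes fun r hr hr2 => by
    rw [hpi r hr, dvd_card_iff _ hW T hTq hr hr2, hcT]
  subst hmm
  let σ : F' ≃+* F := FiniteField.ringEquivOfCardEq (by rw [hF', h.card])
  exact ⟨(Subgroup.topEquiv.symm.trans (MulEquiv.subgroupCongr htop.symm)).trans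
    (e.trans (szCongr σ _))⟩

end CfsgLib.SzGraph
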