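import Cfsg.Agent.Lib.CIT.Classification
import Cfsg.Agent.Lib.ZTIso.Zassenhaus

/-!
# A simple CIT group without elements of order three is a Suzuki group, up to isomorphism
-/

set_option autoImplicit false

namespace CfsgLib.SzGraph

open Matrix CfsgLib.CIT

/-- An element of `SLₙ` of order three, outside the scalars, gives three in the order of `PSLₙ`. -/
theorem three_dvd_card_psl {F : Type*} [Field F] [Finite F] {n : ℕ}
    (g : Matrix.SpecialLinearGroup (Fin n) F) (h3 : g ^ 3 = 1) {i j : Fin n} (hij : i ≠ j)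
    (hg : (g : Matrix (Fin n) (Fin n) F) i j ≠ 0) :
    3 ∣ Nat.card (ProjectiveSpecialLinearGroup (Fin n) F) := by
  haveI : Fact (Nat.Prime 3) := ⟨Nat.prime_three⟩
  have h1 : (QuotientGroup.mk g : ProjectiveSpecialLinearGroup (Fin n) F) ≠ 1 := by
    intro h
    obtain ⟨r, -, hr⟩ := Matrix.SpecialLinearGroup.mem_center_iff.mp ((QuotientGroup.eq_one_iff g).mp h)
    exact hg (by rw [← hr, Matrix.scalar_apply, Matrix.diagonal_apply_ne _ hij])
  have h := orderOf_dvd_natCard (QuotientGroup.mk g : ProjectiveSpecialLinearGroup (Fin n) F)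
  rwa [orderOf_eq_prime (p := 3) (by rw [← QuotientGroup.mk_pow, h3]; rfl) h1] at h

theorem three_dvd_card_psl_two (F : Type*) [Field F] [Finite F] :
    3 ∣ Nat.card (ProjectiveSpecialLinearGroup (Fin 2) F) := by
  refine three_dvd_card_psl ⟨!![0, 1; -1, -1], by simp [Matrix.det_fin_two]⟩ (Subtype.ext ?_)
    (i := 0) (j := 1) (by decide) (by simp)
  show (!![0, 1; -1, -1] : Matrix (Fin 2) (Fin 2) F) ^ 3 = 1
  rw [pow_succ, pow_succ, pow_one]
  ext i j
  fin_cases i <;> fin_cases j <;> simp [Matrix.mul_apply, Fin.sum_univ_two]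

theorem three_dvd_card_psl_three (F : Type*) [Field F] [Finite F] :
    3 ∣ Nat.card (ProjectiveSpecialLinearGroup (Fin 3) F) := by
  refine three_dvd_card_psl ⟨!![0, 1, 0; -1, -1, 0; 0, 0, 1], by simp [Matrix.det_fin_three]⟩
    (Subtype.ext ?_) (i := 0) (j := 1) (by decide) (by simp)
  show (!![0, 1, 0; -1, -1, 0; 0, 0, 1] : Matrix (Fin 3) (Fin 3) F) ^ 3 = 1
  rw [pow_succ, pow_succ, pow_one]
  ext i j
  fin_cases i <;> fin_cases j <;> simp [Matrix.mul_apply, Fin.sum_univ_three]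

/-- Recognition of the Suzuki groups among simple CIT groups. -/
theorem isoSuzuki_of_isCIT {T : Type*} [Group T] [Finite T] [IsSimpleGroup T]
    (hab : ∃ a b : T, a * b ≠ b * a) (hC : IsCIT T) (h3 : ¬ 3 ∣ Nat.card T) :
    Cfsg.Lie.IsoSuzuki T := by
  have hP2 : ∀ (F : Type) (_ : Field F) (_ : Fintype F),
      ¬ Nonempty (T ≃* ProjectiveSpecialLinearGroup (Fin 2) F) := fun F _ _ ⟨e⟩ =>
    h3 (Nat.card_congr e.toEquiv ▸ three_dvd_card_psl_two F)
  rcases nonTI_or_exists_isTI hab hC with (⟨F, iF, iFF, -, he⟩ | ⟨F, iF, iFF, -, ⟨e⟩⟩) | ⟨S, hTI⟩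
  · exact absurd he (hP2 F iF iFF)
  · exact absurd (Nat.card_congr e.toEquiv ▸ three_dvd_card_psl_three F) h3
  · rcases CfsgLib.ZTIso.zassenhaus_simple_iso
        (isZassenhausGroup_of_isTI hab (two_dvd_card hab) hC S hTI) with ⟨F, iF, iFF, he⟩ | hS
    · exact absurd he (hP2 F iF iFF)
    · exact hS

end CfsgLib.SzGraph
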